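import Groth.Agent.S9370
import Groth.Agent.S5018
import Groth.Agent.S1488
import Groth.Agent.GrpOmega.Section
import Groth.Agent.Lib.CurveStable
import Groth.Agent.KFlatLib.Perfect.LocFree

/-!
Closed subgroups give quotients of invariant differentials, and quotients of a bundle on a curve have
degree bounded below.
-/

set_option linter.style.haveILetI false
set_option linter.unusedSectionVars false
set_option backward.isDefEq.respectTransparency false
set_option backward.isDefEq.respectTransparency.types false
set_option autoImplicit false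

universe u

open CategoryTheory CategoryTheory.Limits AlgebraicGeometry MonoidalCategory CartesianMonoidalCategory
open scoped MonObj

namespace Groth.Agent.CanParLib

/-- An immersion gives a surjection of differentials. -/
theorem exists_epi_omega {Z X S : Scheme.{u}} (f : X ⟶ S) (h : Z ⟶ S) (i : Z ⟶ X) [IsImmersion i]
    [QuasiSeparated f] (hi : i ≫ f = h) :
    ∃ c : (Scheme.Modules.pullback i).obj (Omega.sheaf f) ⟶ Omega.sheaf h, Epi c := by
  subst hi
  haveI : QuasiSeparated (i ≫ f) := inferInstance
  obtain ⟨c, hc, -⟩ := S9370.result f (i ≫ f) i (𝟙 S) (Category.comp_id _) _ _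
    (OmegaUniv.isUniversal_dOmega f) _ _ (OmegaUniv.isUniversal_dOmega (i ≫ f))
  exact ⟨c, Synt29.ConormalSeq.epi_diffCompat f i _ _ (OmegaUniv.isUniversal_dOmega f) _ _
    (OmegaUniv.isUniversal_dOmega (i ≫ f)) c hc⟩

/-- A closed subgroup gives an epimorphism of invariant differentials. -/
theorem exists_epi_lieOmega {S : Scheme.{u}} {P G : Over S} [GrpObj P] [GrpObj G] (i : P ⟶ G)
    [IsMonHom i] [IsImmersion i.left] [QuasiSeparated G.hom] :
    ∃ q : LieS.omega G ⟶ LieS.omega P, Epi q := by
  obtain ⟨c, hc⟩ := exists_epi_omega G.hom P.hom i.left (Over.w i)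
  haveI := hc
  haveI : (Scheme.Modules.pullback (η[P]).left).IsLeftAdjoint :=
    (Scheme.Modules.pullbackPushforwardAdjunction (η[P]).left).isLeftAdjoint
  let e : LieS.omega G ≅ (Scheme.Modules.pullback (η[P]).left).obj
      ((Scheme.Modules.pullback i.left).obj (Omega.sheaf G.hom)) :=
    (Scheme.Modules.pullbackCongr (show (η[G]).left = (η[P]).left ≫ i.left by
      rw [← Over.comp_left, IsMonHom.one_hom i])).app _ ≪≫
      ((Scheme.Modules.pullbackComp (η[P]).left i.left).app _).symm
  exact ⟨e.hom ≫ (Scheme.Modules.pullback (η[P]).left).map c, inferInstance⟩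

/-- The invariant differentials of a smooth group are a bundle. -/
theorem isFinLocFree_lieOmega {S : Scheme.{u}} (G : Over S) [GrpObj G] [Smooth G.hom]
    [QuasiSeparated G.hom] :
    FlatMod.IsFinLocFree (LieS.omega G) :=
  KFlatLib.isFinLocFree_pullback _ (S5018.result G.hom ((S1488.result _).1 inferInstance).2 _ _
    (OmegaUniv.isUniversal_dOmega _))

open CurveBundle CurveSlope CurveStable

/-- Quotient bundles of a bundle on a curve have degree bounded below. -/
theorem exists_quot_bound (k : Type u) [Field k] {X : Scheme.{u}} [X.Over (Spec (CommRingCat.of k))]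
    [IsIntegral X] [IsProper (X ↘ Spec (CommRingCat.of k))] [Smooth (X ↘ Spec (CommRingCat.of k))]
    (hdim : topologicalKrullDim X ≤ 1) {E : X.Modules} (hE : FlatMod.IsFinLocFree E) :
    ∃ C : ℤ, ∀ (Q : X.Modules) (q : E ⟶ Q), Epi q → FlatMod.IsFinLocFree Q → C ≤ dg k Q := by
  haveI := isLocallyNoetherian' k (X := X)
  refine ⟨dg k E - Module.finrank k (Coh.HH X E 0) -
    (rk E : ℤ) * |Curv2.euler k X (Coh.structureModule X)|, fun Q q hq hQ => ?_⟩
  haveI := hq
  have hEc := coh_of_free k hE
  have hQc := coh_of_free k hQ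
  have hK : Coh.IsCoh (kernel q) := QCoh.isCoh_kernel hEc hQc q
  have hS := shortExact_kernel_of_epi q
  have h1 := dg_add k _ _ _ hS hK hEc hQc
  have h2 := rk_add_coh k _ _ _ hS hEc
  have h3 := dg_le_h0 k hdim (kernel.ι q) hK hEc
  have h4 : (rk (kernel q) : ℤ) ≤ rk E := by exact_mod_cast (by omega : rk (kernel q) ≤ rk E)
  have h5 := neg_abs_le (Curv2.euler k X (Coh.structureModule X))
  have h6 := mul_le_mul_of_nonneg_left h5 (Int.natCast_nonneg (rk (kernel q)))
  have h7 := mul_le_mul_of_nonneg_right h4 (abs_nonneg (Curv2.euler k X (Coh.structureModule X)))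
  linarith

end Groth.Agent.CanParLib
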