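import Groth.Agent.CanParLib.QuotBound
import Groth.Agent.GrpOmega.Shear
import Groth.Agent.Pic13Lib.EulerFamily
import Groth.Agent.CurveBC.Geometry
import Groth.Agent.Lib.CurveRR

/-!
Uniform bounds on the fibres of a proper flat family.
-/

set_option linter.style.haveILetI false
set_option linter.unusedSectionVars false
set_option backward.isDefEq.respectTransparency false
set_option backward.isDefEq.respectTransparency.types false
set_option autoImplicit false
set_option maxHeartbeats 1000000

universe u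

open CategoryTheory CategoryTheory.Limits AlgebraicGeometry MonoidalCategory CartesianMonoidalCategory
open scoped MonObj TensorProduct

namespace Groth.Agent.CanParLib

/-- The unit of a base changed group. -/
theorem bc_one_fst {S S' : Scheme.{u}} (f : S' ⟶ S) (G : Over S) [GrpObj G] :
    (η[Red.bc f G]).left ≫ pullback.fst G.hom f = f ≫ (η[G]).left := by
  have h : η[Red.bc f G] = Functor.LaxMonoidal.ε (Over.pullback f) ≫ (Over.pullback f).map η[G] := rfl
  have h1 : ((Over.pullback f).map η[G]).left ≫ pullback.fst G.hom f =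
      pullback.fst (𝟙_ (Over S)).hom f ≫ (η[G]).left := pullback.lift_fst _ _ _
  have h4 : (Functor.LaxMonoidal.ε (Over.pullback f)).left ≫ pullback.snd (𝟙_ (Over S)).hom f = 𝟙 _ :=
    Over.w (Functor.LaxMonoidal.ε (Over.pullback f))
  have h5 : pullback.fst (𝟙_ (Over S)).hom f = pullback.snd (𝟙_ (Over S)).hom f ≫ f := by
    rw [← pullback.condition]
    exact (Category.comp_id _).symm
  rw [h, Over.comp_left, Category.assoc, h1, h5, Category.assoc, reassoc_of% h4]

/-- Invariant differentials commute with base change. -/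
theorem nonempty_lieOmega_bc {S S' : Scheme.{u}} (f : S' ⟶ S) (G : Over S) [GrpObj G] [QuasiSeparated G.hom] :
    Nonempty ((Scheme.Modules.pullback f).obj (LieS.omega G) ≅ LieS.omega (Red.bc f G)) := by
  obtain ⟨e⟩ := GrpOmega.nonempty_omega_baseChange
    (show IsPullback (pullback.fst G.hom f) (Red.bc f G).hom G.hom f from IsPullback.of_hasPullback _ _)
  exact ⟨(Scheme.Modules.pullbackComp f (η[G]).left).app _ ≪≫
    (Scheme.Modules.pullbackCongr (bc_one_fst f G).symm).app _ ≪≫
    ((Scheme.Modules.pullbackComp (η[Red.bc f G]).left (pullback.fst G.hom f)).app _).symm ≪≫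
    (Scheme.Modules.pullback (η[Red.bc f G]).left).mapIso e⟩

/-- Over an affine open of the base the dimensions of fibre cohomology are bounded. -/
theorem exists_bound_affine {S X : Scheme.{u}} [IsLocallyNoetherian S] (p : X ⟶ S) [IsProper p]
    (F : X.Modules) (hF : Coh.IsCoh F) (hfl : FlatMod.IsFlatOver p F) {V : S.Opens} (hV : IsAffineOpen V)
    (i : ℕ) :
    ∃ N : ℕ, ∀ (K : Type u) [Field K] (x : Spec (CommRingCat.of K) ⟶ S), x (IsLocalRing.closedPoint K) ∈ V →
      letI : (pullback p x).Over (Spec (CommRingCat.of K)) := ⟨pullback.snd p x⟩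
      Module.finrank K (Coh.HH (pullback p x) ((Scheme.Modules.pullback (pullback.fst p x)).obj F) i) ≤ N := by
  let A := Γ(S, V)
  haveI : IsNoetherianRing A := IsLocallyNoetherian.component_noetherian ⟨V, hV⟩
  let XV := pullback p hV.fromSpec
  letI : XV.Over (Spec (CommRingCat.of A)) := ⟨pullback.snd p hV.fromSpec⟩
  haveI : IsProper (XV ↘ Spec (CommRingCat.of A)) := inferInstanceAs (IsProper (pullback.snd p hV.fromSpec))
  haveI : IsLocallyNoetherian XV := LocallyOfFiniteType.isLocallyNoetherian (XV ↘ Spec (CommRingCat.of A))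
  haveI : IsLocallyNoetherian X := LocallyOfFiniteType.isLocallyNoetherian p
  let FV := (Scheme.Modules.pullback (pullback.fst p hV.fromSpec)).obj F
  have hFV : Coh.IsCoh FV := ZClosLib.isCoh_pullback _ hF
  have hflV : FlatMod.IsFlatOver (XV ↘ Spec (CommRingCat.of A)) FV :=
    FlatBC5.isFlatOver_of_baseChange (IsPullback.of_hasPullback p hV.fromSpec) hF.1 hfl
  obtain ⟨P, hP⟩ := QCoh.exists_isBCModel (A := A) FV hFV hflV
  haveI := hP.1 (-(i : ℤ))
  obtain ⟨n, f, hf⟩ := Module.Finite.exists_fin' A (P.X (-(i : ℤ)))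
  refine ⟨n, fun K _ x hx => ?_⟩
  letI : (pullback p x).Over (Spec (CommRingCat.of K)) := ⟨pullback.snd p x⟩
  have hrange : Set.range x ⊆ Set.range hV.fromSpec := by
    rintro _ ⟨a, rfl⟩
    rw [hV.range_fromSpec]
    exact (Subsingleton.elim (IsLocalRing.closedPoint K) a) ▸ hx
  let x' := IsOpenImmersion.lift hV.fromSpec x hrange
  have hx' : x' ≫ hV.fromSpec = x := IsOpenImmersion.lift_fac _ _ _
  let φ : A →+* K := (Spec.preimage x').hom
  have hφ : Spec.map (CommRingCat.ofHom φ) = x' := Spec.map_preimage x'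
  let g : pullback p x ⟶ XV := pullback.lift (pullback.fst p x) (pullback.snd p x ≫ x') (by
    rw [Category.assoc, hx', pullback.condition])
  have hsq : IsPullback g (pullback.snd p x) (XV ↘ Spec (CommRingCat.of A))
      (Spec.map (CommRingCat.ofHom φ)) := by
    rw [hφ]
    refine IsPullback.of_right ?_ (pullback.lift_snd _ _ _) (IsPullback.of_hasPullback p hV.fromSpec)
    rw [show g ≫ pullback.fst p hV.fromSpec = pullback.fst p x from pullback.lift_fst _ _ _, hx']
    exact IsPullback.of_hasPullback p x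
  obtain ⟨eB⟩ := hP.2.2.2.2.2 K φ (pullback p x) g (pullback.snd p x) hsq i
  let e : (Scheme.Modules.pullback g).obj FV ≅ (Scheme.Modules.pullback (pullback.fst p x)).obj F :=
    (Scheme.Modules.pullbackComp g _).app F ≪≫
      eqToIso (congrArg (fun m => (Scheme.Modules.pullback m).obj F) (pullback.lift_fst _ _ _))
  let l := LinearEquiv.ofBijective (PnCoh.Finite.mapLin (A := K) e.hom i)
    (ConcreteCategory.bijective_of_isIso ((CohIII.HAb (pullback p x) i).map e.hom))
  refine ((l.symm.trans eB).finrank_eq).le.trans ?_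
  let C := CohIII.bcCx φ P
  letI := φ.toAlgebra
  have hX : Module.Finite K (C.X (-(i : ℤ))) ∧ Module.finrank K (C.X (-(i : ℤ))) ≤ n := by
    show Module.Finite K (K ⊗[A] P.X (-(i : ℤ))) ∧ Module.finrank K (K ⊗[A] P.X (-(i : ℤ))) ≤ n
    refine ⟨inferInstance, ?_⟩
    have h := LinearMap.finrank_le_finrank_of_surjective (f := f.baseChange K)
      (LinearMap.baseChange_surjective K hf)
    haveI : Nontrivial A := φ.domain_nontrivial
    rwa [Module.finrank_baseChange (M' := Fin n → A), Module.finrank_fin_fun] at h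
  haveI := hX.1
  haveI : Module.Finite K (C.cycles (-(i : ℤ))) :=
    Module.Finite.of_injective (C.iCycles _).hom ((ModuleCat.mono_iff_injective _).1 inferInstance)
  exact (LinearMap.finrank_le_finrank_of_surjective
    (f := (C.homologyπ (-(i : ℤ))).hom) ((ModuleCat.epi_iff_surjective _).1 inferInstance)).trans
    ((LinearMap.finrank_le_finrank_of_injective
      (f := (C.iCycles (-(i : ℤ))).hom) ((ModuleCat.mono_iff_injective _).1 inferInstance)).trans hX.2)

/-- The dimensions of fibre cohomology of a flat coherent family are bounded. -/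
theorem exists_bound {S X : Scheme.{u}} [IsNoetherian S] (p : X ⟶ S) [IsProper p]
    (F : X.Modules) (hF : Coh.IsCoh F) (hfl : FlatMod.IsFlatOver p F) (i : ℕ) :
    ∃ N : ℕ, ∀ (K : Type u) [Field K] (x : Spec (CommRingCat.of K) ⟶ S),
      letI : (pullback p x).Over (Spec (CommRingCat.of K)) := ⟨pullback.snd p x⟩
      Module.finrank K (Coh.HH (pullback p x) ((Scheme.Modules.pullback (pullback.fst p x)).obj F) i) ≤ N := by
  have h : ∀ s : S, ∃ V : S.Opens, IsAffineOpen V ∧ s ∈ V := fun s => by
    obtain ⟨_, ⟨V, hV, rfl⟩, hs, -⟩ :=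
      S.isBasis_affineOpens.exists_subset_of_mem_open (Set.mem_univ s) isOpen_univ
    exact ⟨V, hV, hs⟩
  choose V hV hs using h
  choose N hN using fun s => exists_bound_affine p F hF hfl (hV s) i
  obtain ⟨t, ht⟩ := isCompact_univ.elim_finite_subcover (fun s => (V s : Set S)) (fun s => (V s).2)
    (fun s _ => Set.mem_iUnion.2 ⟨s, hs s⟩)
  refine ⟨t.sup N, fun K _ x => ?_⟩
  obtain ⟨s, hst, hxs⟩ := Set.mem_iUnion₂.1 (ht (Set.mem_univ (x (IsLocalRing.closedPoint K))))
  exact (hN s K x hxs).trans (Finset.le_sup hst)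

/-- Pull-backs of a bundle to integral schemes have bounded rank. -/
theorem exists_rank_bound {X : Scheme.{u}} [CompactSpace X] {E : X.Modules} (hE : FlatMod.IsFinLocFree E) :
    ∃ R : ℕ, ∀ (Z : Scheme.{u}) [IsIntegral Z] (j : Z ⟶ X),
      CurveBundle.rk ((Scheme.Modules.pullback j).obj E) ≤ R := by
  choose U n hx hU using hE
  obtain ⟨t, ht⟩ := isCompact_univ.elim_finite_subcover (fun x => (U x : Set X)) (fun x => (U x).2)
    (fun x _ => Set.mem_iUnion.2 ⟨x, hx x⟩)
  refine ⟨t.sup n, fun Z _ j => ?_⟩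
  obtain ⟨x, hxt, hxU⟩ := Set.mem_iUnion₂.1 (ht (Set.mem_univ (j (genericPoint Z))))
  have hP : FlatMod.IsFinLocFree ((Scheme.Modules.pullback j).obj E) :=
    KFlatLib.isFinLocFree_pullback j (fun y => ⟨U y, n y, hx y, hU y⟩)
  obtain ⟨a⟩ := hU x
  let V := j ⁻¹ᵁ U x
  have hxV : genericPoint Z ∈ V := hxU
  let e := ((H23.PullPush.pullRestrictIso j (U x)).app E).symm ≪≫
      (Scheme.Modules.pullback (j ∣_ U x)).mapIso a ≪≫ KFlatLib.pullFreeIso _ _
  obtain ⟨_, ⟨W, hW, rfl⟩, hzW, hle⟩ :=
    Z.isBasis_affineOpens.exists_subset_of_mem_open hxV V.2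
  obtain ⟨l⟩ := QCoh.free_sections hW hle e
  have h1 : CurveBundle.rk ((Scheme.Modules.pullback j).obj E) = n x :=
    QCoh.finrank_stalk_of_freeChart hW (QCoh.isQCoh_of_isFinLocFree hP) l hzW
  exact h1.le.trans (Finset.le_sup hxt)

/-- A bundle is flat over the base of a flat morphism. -/
theorem isFlatOver_of_free {X S : Scheme.{u}} (f : X ⟶ S) [Flat f] {E : X.Modules}
    (hE : FlatMod.IsFinLocFree E) : FlatMod.IsFlatOver f E := fun x => by
  show FlatMod.IsFlatOverAt f E x
  unfold FlatMod.IsFlatOverAt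
  letI := FlatMod.moduleStalkOver f E x
  letI : Algebra (S.presheaf.stalk (f.base x)) (X.presheaf.stalk x) := (f.stalkMap x).hom.toAlgebra
  haveI : IsScalarTower (S.presheaf.stalk (f.base x)) (X.presheaf.stalk x) (E.presheaf.stalk x) :=
    IsScalarTower.of_algebraMap_smul fun _ _ => rfl
  haveI : Module.Flat (S.presheaf.stalk (f.base x)) (X.presheaf.stalk x) := Flat.stalkMap f x
  haveI : Module.Free (X.presheaf.stalk x) (E.presheaf.stalk x) := QCoh.free_stalk_of_isFinLocFree hE x
  exact Module.Flat.trans (S.presheaf.stalk (f.base x)) (X.presheaf.stalk x) (E.presheaf.stalk x)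

/-- The fibre over a field valued point has the dimension of the fibre over its image. -/
theorem dim_fibre {S X : Scheme.{u}} (p : X ⟶ S) [LocallyOfFiniteType p]
    (hdim : ∀ s : S, topologicalKrullDim (p.fiber s) = 1) {K : Type u} [Field K]
    (x : Spec (CommRingCat.of K) ⟶ S) : topologicalKrullDim ↥(pullback p x) = 1 := by
  let s := x (IsLocalRing.closedPoint K)
  let x' : Spec (CommRingCat.of K) ⟶ Spec (S.residueField s) :=
    Spec.map (Scheme.descResidueField (Scheme.stalkClosedPointTo x))
  have hx : x' ≫ S.fromSpecResidueField s = x :=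
    Scheme.descResidueField_stalkClosedPointTo_fromSpecResidueField K S x
  let g : pullback p x ⟶ p.fiber s :=
    pullback.lift (pullback.fst p x) (pullback.snd p x ≫ x') (by rw [Category.assoc, hx, pullback.condition])
  have hsq : IsPullback g (pullback.snd p x) (p.fiberToSpecResidueField s) x' := by
    refine IsPullback.of_right ?_ (pullback.lift_snd _ _ _) (IsPullback.of_hasPullback p (S.fromSpecResidueField s))
    rw [show g ≫ pullback.fst p (S.fromSpecResidueField s) = pullback.fst p x from pullback.lift_fst _ _ _, hx]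
    exact IsPullback.of_hasPullback p x
  haveI : Subsingleton (Spec (S.residueField s)) := inferInstanceAs (Subsingleton (PrimeSpectrum (S.residueField s)))
  haveI : Subsingleton (Spec (CommRingCat.of K)) := inferInstanceAs (Subsingleton (PrimeSpectrum K))
  haveI : Nonempty (Spec (CommRingCat.of K)) := inferInstanceAs (Nonempty (PrimeSpectrum K))
  haveI : LocallyOfFiniteType (p.fiberToSpecResidueField s) :=
    inferInstanceAs (LocallyOfFiniteType (pullback.snd p (S.fromSpecResidueField s)))
  exact (FibDim.topologicalKrullDim_baseChange hsq).trans (hdim s)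

open CurveBundle CurveSlope CurveStable in
/-- Degrees of quotient bundles in terms of cohomology. -/
theorem dg_quot_ge (k : Type u) [Field k] {X : Scheme.{u}} [X.Over (Spec (CommRingCat.of k))]
    [IsIntegral X] [IsProper (X ↘ Spec (CommRingCat.of k))] [Smooth (X ↘ Spec (CommRingCat.of k))]
    (hdim : topologicalKrullDim X ≤ 1) {E Q : X.Modules} (hE : FlatMod.IsFinLocFree E)
    (hQ : FlatMod.IsFinLocFree Q) (q : E ⟶ Q) [Epi q] :
    -(Module.finrank k (Coh.HH X E 1) : ℤ) -
      2 * ((rk E : ℤ) * ((Module.finrank k (Coh.HH X (Coh.structureModule X) 0) : ℤ) +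
        Module.finrank k (Coh.HH X (Coh.structureModule X) 1))) ≤ dg k Q := by
  haveI := isLocallyNoetherian' k (X := X)
  have hEc := coh_of_free k hE
  have hQc := coh_of_free k hQ
  have hK : Coh.IsCoh (kernel q) := QCoh.isCoh_kernel hEc hQc q
  have hS := shortExact_kernel_of_epi q
  have h1 := dg_add k _ _ _ hS hK hEc hQc
  have h2 := rk_add_coh k _ _ _ hS hEc
  have h3 := dg_le_h0 k hdim (kernel.ι q) hK hEc
  have h4 : (rk (kernel q) : ℤ) ≤ rk E := by exact_mod_cast (by omega : rk (kernel q) ≤ rk E)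
  have h5 := CurveRR.euler_eq_h0_sub_h1 k hdim hEc.1
  have h6 := CurveRR.euler_eq_h0_sub_h1 k hdim (QCoh.isQCoh_structureModule (X := X))
  have hnE : (0 : ℤ) ≤ rk E := Int.natCast_nonneg _
  have hnK : (0 : ℤ) ≤ rk (kernel q) := Int.natCast_nonneg _
  have a1 := mul_le_mul_of_nonneg_right h4
    (Int.natCast_nonneg (Module.finrank k (Coh.HH X (Coh.structureModule X) 1)))
  have a2 := mul_nonneg hnK (Int.natCast_nonneg (Module.finrank k (Coh.HH X (Coh.structureModule X) 0)))
  have a3 := mul_nonneg hnE (Int.natCast_nonneg (Module.finrank k (Coh.HH X (Coh.structureModule X) 0)))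
  have a4 := mul_nonneg hnE (Int.natCast_nonneg (Module.finrank k (Coh.HH X (Coh.structureModule X) 1)))
  have e : dg k E = Curv2.euler k X E - (rk E : ℤ) * Curv2.euler k X (Coh.structureModule X) := rfl
  rw [h5, h6] at e
  rw [h6] at h3
  linarith

end Groth.Agent.CanParLib
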